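import Groth.Agent.CurvSt.K312.Stab
import Groth.Agent.VecBal.K996.ExtGeom
import Groth.Agent.AlgGrp.K403.P1Fix3
import Groth.Agent.S17258
import Groth.Agent.S4367
import Groth.Prelude.Def_StMap

/-!
# The automorphism group of a stable map of genus zero is finite
-/

set_option autoImplicit false

universe u

open CategoryTheory CategoryTheory.Limits AlgebraicGeometry TopologicalSpace

namespace K314.AutFin

section Top

variable {X : Scheme.{u}} [NoetherianSpace X]

/-- A component of a Noetherian scheme of dimension at most one meets a closed subset not containing it in a finite set. -/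
theorem finite_inter_of_isClosed (hd : topologicalKrullDim X ≤ 1) {E Z : Set X}
    (hE : E ∈ irreducibleComponents (X : Type u)) (hZ : IsClosed Z) (hne : ¬ E ⊆ Z) : (E ∩ Z).Finite := by
  have hEc := isClosed_of_mem_irreducibleComponents E hE
  have hemb : Topology.IsClosedEmbedding (Subtype.val : E → X) := hEc.isClosedEmbedding_subtypeVal
  have i1 : IrreducibleSpace E := isIrreducible_iff_irreducibleSpace.mp hE.1
  have i2 : QuasiSober E := hemb.quasiSober
  have i3 : NoetherianSpace E := hemb.isInducing.noetherianSpace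
  have hdE : topologicalKrullDim E ≤ 1 := hemb.isInducing.topologicalKrullDim_le.trans hd
  have hZ' : IsClosed ((Subtype.val : E → X) ⁻¹' Z) := hZ.preimage continuous_subtype_val
  have hZne : ((Subtype.val : E → X) ⁻¹' Z) ≠ Set.univ := by
    intro h
    apply hne
    intro x hx
    have : (⟨x, hx⟩ : E) ∈ (Subtype.val : E → X) ⁻¹' Z := by rw [h]; trivial
    exact this
  have h1 := Groth.Agent.CurvesC.Dim1Top.finite_of_isClosed hdE hZ' hZne
  have h2 := h1.image (Subtype.val : E → X)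
  rwa [Subtype.image_preimage_coe] at h2

/-- The image of an irreducible component under an automorphism. -/
theorem image_mem {T : Type*} [TopologicalSpace T] (φ : T ≃ₜ T) {E : Set T} (hE : E ∈ irreducibleComponents T) :
    φ '' E ∈ irreducibleComponents T := by
  refine ⟨hE.1.image φ φ.continuous.continuousOn, fun F hF hEF => ?_⟩
  have h1 : IsIrreducible (φ.symm '' F) := hF.image φ.symm φ.symm.continuous.continuousOn
  have h2 : E ⊆ φ.symm '' F := by
    intro x hx
    exact ⟨φ x, hEF ⟨x, hx, rfl⟩, φ.symm_apply_apply x⟩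
  have h3 := hE.2 h1 h2
  intro y hy
  exact ⟨φ.symm y, h3 ⟨y, hy, rfl⟩, φ.apply_symm_apply y⟩

end Top

section Rigid

variable {Ω : Type u} [Field Ω] {C : Scheme.{u}} (q : C ⟶ Spec (CommRingCat.of Ω))

/-- An automorphism of a component which is a projective line is the identity if it fixes three closed points. -/
theorem comp_eq [IsAlgClosed Ω] [LocallyOfFiniteType q] {E : Set C}
    (e : CohB1.ProjSpace 1 Ω ⟶ C) [IsClosedImmersion e] (he : e ≫ q = CohB1.ProjSpace.toSpec 1 Ω)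
    (heE : Set.range e = E) (ψ : C ≅ C) (hψ : ψ.hom ≫ q = q) (hE : ψ.hom '' E = E)
    (h3 : ∃ a b c : C, a ∈ E ∧ b ∈ E ∧ c ∈ E ∧ a ≠ b ∧ a ≠ c ∧ b ≠ c ∧
      (IsClosed ({a} : Set C) ∧ IsClosed ({b} : Set C) ∧ IsClosed ({c} : Set C)) ∧
      ψ.hom a = a ∧ ψ.hom b = b ∧ ψ.hom c = c) : e ≫ ψ.hom = e := by
  have hI := K403.P1Fix.isIntegral_P1 Ω
  have hpr : IsProper (CohB1.ProjSpace.toSpec 1 Ω) := inferInstance
  have hψ' : ψ.inv ≫ q = q := by rw [Iso.inv_comp_eq, hψ]
  have hE' : ψ.inv '' E = E := by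
    conv_lhs => rw [← hE]
    rw [Set.image_image]
    simp [← Scheme.Hom.comp_apply]
  obtain ⟨h, hh⟩ := Groth.Agent.S4367.result (e ≫ ψ.hom) e (by
    rw [Scheme.Hom.comp_base, TopCat.coe_comp, Set.range_comp, heE, hE])
  obtain ⟨h', hh'⟩ := Groth.Agent.S4367.result (e ≫ ψ.inv) e (by
    rw [Scheme.Hom.comp_base, TopCat.coe_comp, Set.range_comp, heE, hE'])
  let φ : CohB1.ProjSpace 1 Ω ≅ CohB1.ProjSpace 1 Ω :=
    { hom := h
      inv := h'
      hom_inv_id := by
        rw [← cancel_mono e, Category.assoc, hh', reassoc_of% hh, ψ.hom_inv_id, Category.comp_id, Category.id_comp]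
      inv_hom_id := by
        rw [← cancel_mono e, Category.assoc, hh, reassoc_of% hh', ψ.inv_hom_id, Category.comp_id, Category.id_comp] }
  have hφ : φ.hom ≫ CohB1.ProjSpace.toSpec 1 Ω = CohB1.ProjSpace.toSpec 1 Ω := by
    change h ≫ _ = _
    rw [← he, reassoc_of% hh, hψ]
  obtain ⟨a, b, c, ha, hb, hc, hab, hac, hbc, ⟨cla, clb, clc⟩, fa, fb, fc⟩ := h3
  have key : ∀ z : C, z ∈ E → IsClosed ({z} : Set C) → ψ.hom z = z →
      ∃ s : Spec (CommRingCat.of Ω) ⟶ CohB1.ProjSpace 1 Ω, s ≫ CohB1.ProjSpace.toSpec 1 Ω = 𝟙 _ ∧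
        e (s (IsLocalRing.closedPoint Ω)) = z ∧ s ≫ φ.hom = s := by
    intro z hz hcl hf
    rw [← heE] at hz
    obtain ⟨p, rfl⟩ := hz
    have hp : IsClosed ({p} : Set (CohB1.ProjSpace 1 Ω)) := by
      have h1 : ({p} : Set (CohB1.ProjSpace 1 Ω)) = e ⁻¹' {e p} := by
        ext y
        simp only [Set.mem_singleton_iff, Set.mem_preimage]
        exact ⟨fun h => by rw [h], fun h => e.isClosedEmbedding.injective h⟩
      rw [h1]
      exact hcl.preimage e.continuous
    obtain ⟨⟨s, hs⟩, hs'⟩ := (pointEquivClosedPoint (CohB1.ProjSpace.toSpec 1 Ω)).surjective ⟨p, hp⟩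
    have hs2 : s (IsLocalRing.closedPoint Ω) = p := congrArg Subtype.val hs'
    refine ⟨s, hs, by rw [hs2], ?_⟩
    refine ext_of_apply_closedPoint_eq (CohB1.ProjSpace.toSpec 1 Ω) (by rw [Category.assoc, hφ, hs]) hs ?_
    apply e.isClosedEmbedding.injective
    have h1 : (s ≫ φ.hom) (IsLocalRing.closedPoint Ω) = h p := by
      rw [← hs2]
      rfl
    rw [h1, hs2, ← Scheme.Hom.comp_apply, hh, Scheme.Hom.comp_apply, hf]
  obtain ⟨s0, h0, h0', f0⟩ := key a ha cla fa
  obtain ⟨s1, h1, h1', f1⟩ := key b hb clb fb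
  obtain ⟨s2, h2, h2', f2⟩ := key c hc clc fc
  have := K403.P1Fix3.eq_id_of_fix_three φ hφ s0 s1 s2 h0 h1 h2 (fun h => hab (by rw [← h0', ← h1', h]))
    (fun h => hac (by rw [← h0', ← h2', h])) (fun h => hbc (by rw [← h1', ← h2', h])) f0 f1 f2
  rw [← hh]
  change φ.hom ≫ e = e
  rw [this, Category.id_comp]

/-- An automorphism of a reduced curve whose components are projective lines is the identity if it fixes each component and three
closed points on each component. -/
theorem eq_id_of_fix [IsAlgClosed Ω] [IsProper q] [IsReduced C]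
    (hC : ∀ E ∈ irreducibleComponents (C : Type u), CurvSt.IsSmRatComp Ω C q E) (ψ : C ≅ C) (hψ : ψ.hom ≫ q = q)
    (hE : ∀ E ∈ irreducibleComponents (C : Type u), ψ.hom '' E = E)
    (h3 : ∀ E ∈ irreducibleComponents (C : Type u), ∃ a b c : C, a ∈ E ∧ b ∈ E ∧ c ∈ E ∧ a ≠ b ∧ a ≠ c ∧ b ≠ c ∧
      (IsClosed ({a} : Set C) ∧ IsClosed ({b} : Set C) ∧ IsClosed ({c} : Set C)) ∧
      ψ.hom a = a ∧ ψ.hom b = b ∧ ψ.hom c = c) : ψ.hom = 𝟙 C := by
  choose e he1 he2 he3 using fun E hE => (hC E hE).2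
  let ι : (∐ fun _ : irreducibleComponents (C : Type u) => CohB1.ProjSpace 1 Ω) ⟶ C :=
    Sigma.desc fun E => e E.1 E.2
  have hdom : IsDominant ι := by
    refine ⟨Function.Surjective.denseRange fun c => ?_⟩
    have h1 := irreducibleComponent_mem_irreducibleComponents c
    have h2 : c ∈ Set.range (e (irreducibleComponent c) h1).base := by
      rw [he3 _ h1]
      exact mem_irreducibleComponent
    obtain ⟨p, hp⟩ := h2
    refine ⟨(Sigma.ι (fun _ : irreducibleComponents (C : Type u) => CohB1.ProjSpace 1 Ω) ⟨_, h1⟩) p, ?_⟩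
    rw [← Scheme.Hom.comp_apply]
    simp only [ι, Sigma.ι_desc]
    exact hp
  refine ext_of_isDominant_of_isSeparated q ?_ ι ?_
  · rw [hψ, Category.id_comp]
  · rw [Category.comp_id]
    refine Sigma.hom_ext _ _ fun E => ?_
    rw [Sigma.ι_desc_assoc, Sigma.ι_desc]
    have := he1 E.1 E.2
    exact comp_eq q (e E.1 E.2) (he2 _ E.2) (he3 _ E.2) ψ hψ (hE _ E.2) (h3 _ E.2)

/-- There are infinitely many closed points on a projective line. -/
theorem infinite_closed [IsAlgClosed Ω] {E : Set C} (e : CohB1.ProjSpace 1 Ω ⟶ C) [IsClosedImmersion e]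
    (heE : Set.range e = E) : {p : C | p ∈ E ∧ IsClosed ({p} : Set C)}.Infinite := by
  have hpr : IsProper (CohB1.ProjSpace.toSpec 1 Ω) := inferInstance
  let s : Ω → (Spec (CommRingCat.of Ω) ⟶ CohB1.ProjSpace 1 Ω) := fun c => K403.P1Fix.cp 0 c
  have hs : ∀ c, s c ≫ CohB1.ProjSpace.toSpec 1 Ω = 𝟙 _ := by
    intro c
    have h1 := K403.P1Fix.cp_toSpec (K := Ω) 0 c
    rw [h1]
    simp
  have hinf : Infinite Ω := inferInstance
  refine Set.infinite_of_injective_forall_mem (f := fun c : Ω => e (s c (IsLocalRing.closedPoint Ω))) ?_ ?_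
  · intro c c' h
    apply K403.P1Fix.cp_injective (K := Ω) 0
    exact ext_of_apply_closedPoint_eq (CohB1.ProjSpace.toSpec 1 Ω) (hs c) (hs c')
      (e.isClosedEmbedding.injective h)
  · intro c
    refine ⟨by rw [← heE]; exact ⟨_, rfl⟩, ?_⟩
    have h1 : IsClosed ({s c (IsLocalRing.closedPoint Ω)} : Set (CohB1.ProjSpace 1 Ω)) :=
      (pointEquivClosedPoint (CohB1.ProjSpace.toSpec 1 Ω) ⟨s c, hs c⟩).2
    have h2 := e.isClosedEmbedding.isClosedMap _ h1
    rwa [Set.image_singleton] at h2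

/-- A set of automorphisms of a reduced curve whose components are projective lines is finite if each component has three
closed points with finite orbits. -/
theorem finite_of_orbits [IsAlgClosed Ω] [IsProper q] [IsReduced C] (hfin : (irreducibleComponents (C : Type u)).Finite)
    (hC : ∀ E ∈ irreducibleComponents (C : Type u), CurvSt.IsSmRatComp Ω C q E) (G : Set (C ≅ C))
    (hG : ∀ φ ∈ G, φ.hom ≫ q = q)
    (h3 : ∀ E ∈ irreducibleComponents (C : Type u), (3 : ℕ∞) ≤ {p : C | p ∈ E ∧ IsClosed ({p} : Set C) ∧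
      {y | ∃ φ ∈ G, φ.hom p = y}.Finite}.encard) : G.Finite := by
  have h4 : ∀ E : irreducibleComponents (C : Type u), ∃ a b c : C, a ≠ b ∧ a ≠ c ∧ b ≠ c ∧
      (a ∈ E.1 ∧ IsClosed ({a} : Set C) ∧ {y | ∃ φ ∈ G, φ.hom a = y}.Finite) ∧
      (b ∈ E.1 ∧ IsClosed ({b} : Set C) ∧ {y | ∃ φ ∈ G, φ.hom b = y}.Finite) ∧
      (c ∈ E.1 ∧ IsClosed ({c} : Set C) ∧ {y | ∃ φ ∈ G, φ.hom c = y}.Finite) := by
    intro E
    obtain ⟨t, ht, h5⟩ := Set.exists_subset_encard_eq (h3 E.1 E.2)
    obtain ⟨a, b, c, hab, hac, hbc, rfl⟩ := Set.encard_eq_three.mp h5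
    exact ⟨a, b, c, hab, hac, hbc, ht (by simp), ht (by simp), ht (by simp)⟩
  choose a b c hab hac hbc ha hb hc using h4
  have hI : Finite (irreducibleComponents (C : Type u)) := hfin.to_subtype
  have hfa : ∀ E, Finite {y | ∃ φ ∈ G, φ.hom (a E) = y} := fun E => (ha E).2.2.to_subtype
  have hfb : ∀ E, Finite {y | ∃ φ ∈ G, φ.hom (b E) = y} := fun E => (hb E).2.2.to_subtype
  have hfc : ∀ E, Finite {y | ∃ φ ∈ G, φ.hom (c E) = y} := fun E => (hc E).2.2.to_subtype
  let D : Type u := ∀ E : irreducibleComponents (C : Type u), (irreducibleComponents (C : Type u)) ×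
    {y | ∃ φ ∈ G, φ.hom (a E) = y} × {y | ∃ φ ∈ G, φ.hom (b E) = y} × {y | ∃ φ ∈ G, φ.hom (c E) = y}
  have hD : Finite D := inferInstance
  let d : G → D := fun φ E => (⟨φ.1.hom '' E.1, image_mem (Scheme.homeoOfIso φ.1) E.2⟩,
    ⟨φ.1.hom (a E), φ.1, φ.2, rfl⟩, ⟨φ.1.hom (b E), φ.1, φ.2, rfl⟩, ⟨φ.1.hom (c E), φ.1, φ.2, rfl⟩)
  have hd : Function.Injective d := by
    intro φ φ' h
    have hinv : ∀ z : C, φ'.1.inv (φ'.1.hom z) = z := fun z => by
      rw [← Scheme.Hom.comp_apply, Iso.hom_inv_id]; rfl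
    have hpt : ∀ z : C, φ.1.hom z = φ'.1.hom z → (φ.1 ≪≫ φ'.1.symm).hom z = z := by
      intro z hz
      rw [Iso.trans_hom, Scheme.Hom.comp_apply, hz]
      exact hinv z
    have hdE : ∀ E, d φ E = d φ' E := fun E => congrFun h E
    have h1 : (φ.1 ≪≫ φ'.1.symm).hom = 𝟙 C := by
      refine eq_id_of_fix q hC _ ?_ ?_ ?_
      · rw [Iso.trans_hom, Iso.symm_hom, Category.assoc]
        have h2 : φ'.1.inv ≫ q = q := by rw [Iso.inv_comp_eq, hG _ φ'.2]
        rw [h2, hG _ φ.2]
      · intro E hE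
        have h2 : φ.1.hom '' E = φ'.1.hom '' E := congrArg (fun z => (z.1 : Set C)) (hdE ⟨E, hE⟩)
        rw [Iso.trans_hom, Scheme.Hom.comp_base, TopCat.coe_comp, Set.image_comp, h2, ← Set.image_comp]
        have h3 : (φ'.1.symm.hom ∘ φ'.1.hom : C → C) = id := by
          funext z
          exact hinv z
        rw [h3, Set.image_id]
      · intro E hE
        refine ⟨a ⟨E, hE⟩, b ⟨E, hE⟩, c ⟨E, hE⟩, (ha ⟨E, hE⟩).1, (hb ⟨E, hE⟩).1, (hc ⟨E, hE⟩).1,
          hab _, hac _, hbc _, ⟨(ha ⟨E, hE⟩).2.1, (hb ⟨E, hE⟩).2.1, (hc ⟨E, hE⟩).2.1⟩, ?_, ?_, ?_⟩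
        · exact hpt _ (congrArg (fun z => (z.2.1 : C)) (hdE ⟨E, hE⟩))
        · exact hpt _ (congrArg (fun z => (z.2.2.1 : C)) (hdE ⟨E, hE⟩))
        · exact hpt _ (congrArg (fun z => (z.2.2.2 : C)) (hdE ⟨E, hE⟩))
    apply Subtype.ext
    apply Iso.ext
    have h2 : φ.1.hom = (φ.1 ≪≫ φ'.1.symm).hom ≫ φ'.1.hom := by simp
    rw [h2, h1, Category.id_comp]
  have hGf : Finite G := Finite.of_injective d hd
  exact Set.toFinite G

end Rigid

section Main

variable {Ω : Type u} [Field Ω] [IsAlgClosed Ω] {C : Scheme.{u}} (q : C ⟶ Spec (CommRingCat.of Ω))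

/-- **Finiteness of the automorphism group of a stable map of genus zero.** -/
theorem finite_aut [CharZero Ω] {n : ℕ} (x : Fin n → C) {X Y : Scheme.{u}} (μ : C ⟶ X)
    (h : StMap.IsStableMap Ω C q 0 x μ) (p : Y ⟶ Spec (CommRingCat.of Ω)) [IsSeparated p] (μ' : C ⟶ Y)
    (hμ' : μ' ≫ p = q) (w : Y ⟶ X) (hw : μ' ≫ w = μ) :
    {φ : C ≅ C | φ.hom ≫ q = q ∧ (∀ i, φ.hom (x i) = x i) ∧ φ.hom ≫ μ' = μ'}.Finite := by
  obtain ⟨⟨hq, hconn, hdim, ⟨hnod, hgen⟩, hinj, hx⟩, hstab, -⟩ := h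
  let _ : C.Over (Spec (CommRingCat.of Ω)) := ⟨q⟩
  have hq' : IsProper (C ↘ Spec (CommRingCat.of Ω)) := hq
  have hN : IsNoetherian C := K312.Marks.isNoetherian_of_proper q
  have hred : IsReduced C := Groth.Agent.CurvesC.GenusOne512.isReduced_of_atWorstNodal Ω C hnod
  have hfin := NoetherianSpace.finite_irreducibleComponents (α := (C : Type u))
  have hC : ∀ E ∈ irreducibleComponents (C : Type u), CurvSt.IsSmRatComp Ω C q E :=
    ((Groth.Agent.S17258.result Ω C hdim hnod).mp hgen).1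
  have hpure := K312.Marks.pure_of_connected hdim
  have hdom : ∀ i, IsDomain (C.presheaf.stalk (x i)) := fun i =>
    (K312.GlNode.pr_of_smAt (q := q) (K312.Gl.pure_iff.mpr hpure) (hx i).1 (hx i).2).1
  have hprop : IsProper μ' := by
    have : IsProper (μ' ≫ p) := by rw [hμ']; exact hq
    exact IsProper.of_comp μ' p
  refine finite_of_orbits q hfin hC _ (fun φ hφ => hφ.1) fun E hE => ?_
  by_cases hcon : (μ.base '' E).Subsingleton
  · refine (hstab E (hC E hE) hcon).trans ?_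
    rw [K312.Marks.encard_Sp hinj hdom hE]
    refine Set.encard_le_encard ?_
    rintro y (hy | ⟨⟨i, rfl⟩, hy⟩)
    · refine ⟨hy.1, K996.ExtGeom.isClosed_of_mem_meetPts hdim.le hE hy, ?_⟩
      obtain ⟨hyE, F, hF, hne, hyF⟩ := hy
      have h1 : (⋃ P ∈ {P : Set C × Set C | (P.1 ∈ irreducibleComponents (C : Type u) ∧
          P.2 ∈ irreducibleComponents (C : Type u)) ∧ P.1 ≠ P.2}, P.1 ∩ P.2).Finite := by
        refine Set.Finite.biUnion ?_ fun P hP => (K996.ExtGeom.finite_inter hdim.le hP.1.1 hP.1.2 hP.2).1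
        refine Set.Finite.subset (hfin.prod hfin) ?_
        rintro ⟨a, b⟩ ⟨h, -⟩
        exact h
      refine h1.subset ?_
      rintro _ ⟨φ, -, rfl⟩
      refine Set.mem_biUnion (x := (φ.hom '' E, φ.hom '' F)) ⟨⟨image_mem (Scheme.homeoOfIso φ) hE,
        image_mem (Scheme.homeoOfIso φ) hF⟩, fun h => hne ?_⟩ ⟨⟨y, hyE, rfl⟩, ⟨y, hyF, rfl⟩⟩
      exact ((Set.image_injective.mpr (Scheme.homeoOfIso φ).injective) h).symm
    · refine ⟨hy, (hx i).1, ?_⟩
      refine (Set.finite_singleton (x i)).subset ?_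
      rintro _ ⟨φ, hφ, rfl⟩
      exact hφ.2.1 i
  · obtain ⟨e, he1, he2, he3⟩ := (hC E hE).2
    have hinf := infinite_closed e he3
    have h3 : (3 : ℕ∞) ≤ {p : C | p ∈ E ∧ IsClosed ({p} : Set C)}.encard := by
      rw [hinf.encard_eq]; exact le_top
    refine h3.trans (Set.encard_le_encard ?_)
    rintro y ⟨hyE, hy⟩
    refine ⟨hyE, hy, ?_⟩
    have hcl : IsClosed ({μ' y} : Set Y) := by
      have := μ'.isClosedMap _ hy
      rwa [Set.image_singleton] at this
    have h1 : (⋃ F ∈ {F : Set C | F ∈ irreducibleComponents (C : Type u) ∧ ¬ (μ' '' F).Subsingleton},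
        F ∩ (μ' ⁻¹' {μ' y})).Finite := by
      refine Set.Finite.biUnion (hfin.subset fun F hF => hF.1) fun F hF => ?_
      refine finite_inter_of_isClosed hdim.le hF.1 (hcl.preimage μ'.continuous) fun hsub => hF.2 ?_
      rintro _ ⟨z, hz, rfl⟩ _ ⟨z', hz', rfl⟩
      rw [show μ' z = μ' y from hsub hz, show μ' z' = μ' y from hsub hz']
    refine h1.subset ?_
    rintro _ ⟨φ, hφ, rfl⟩
    have hφμ : ∀ z, μ' (φ.hom z) = μ' z := fun z => by rw [← Scheme.Hom.comp_apply, hφ.2.2]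
    refine Set.mem_biUnion (x := φ.hom '' E) ⟨image_mem (Scheme.homeoOfIso φ) hE, fun hs => hcon ?_⟩
      ⟨⟨y, hyE, rfl⟩, hφμ y⟩
    rintro _ ⟨z, hz, rfl⟩ _ ⟨z', hz', rfl⟩
    have h5 : μ' z = μ' z' := by
      rw [← hφμ z, ← hφμ z']
      exact hs ⟨_, ⟨z, hz, rfl⟩, rfl⟩ ⟨_, ⟨z', hz', rfl⟩, rfl⟩
    rw [← hw]
    change w (μ' z) = w (μ' z')
    rw [h5]

end Main

section Family

variable {S : Scheme.{u}} {n : ℕ} {X : Over S}

/-- Morphisms into a stable family of maps of genus zero over the spectrum of an algebraically closed field, with given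
isomorphism of bases: there are finitely many. -/
theorem finite_hom [IsSeparated X.hom] {Ω : Type u} [Field Ω] [IsAlgClosed Ω] [CharZero Ω]
    (A B : StMap.MapFamObj S n X) (b : A.base ≅ B.base) (t : B.base.left ≅ Spec (CommRingCat.of Ω))
    (hB : StMap.IsStableMapFam B.f B.sect B.sect_f B.map 0) : Finite {φ : A ⟶ B // φ.hom.base = b.hom} := by
  rcases isEmpty_or_nonempty {φ : A ⟶ B // φ.hom.base = b.hom} with h0 | ⟨⟨φ₀, hφ₀⟩⟩
  · infer_instance
  have ib : IsIso b.hom.left := inferInstanceAs (IsIso ((Over.forget S).map b.hom))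
  have hiso : ∀ φ : A ⟶ B, φ.hom.base = b.hom → IsIso φ.hom.top := by
    intro φ hφ
    have h1 := φ.hom.cart
    have h2 : IsIso φ.hom.base.left := by rw [hφ]; exact ib
    exact h1.isIso_fst_of_isIso
  have i0 := hiso φ₀ hφ₀
  let q : B.C ⟶ Spec (CommRingCat.of Ω) := B.f ≫ t.hom
  have hP : IsPullback (𝟙 B.C) q B.f t.inv := IsPullback.of_horiz_isIso ⟨by simp [q]⟩
  have hst := hB.2.2.2 Ω t.inv B.C (𝟙 _) q hP
  rw [Category.id_comp] at hst
  let p : pullback X.hom (t.inv ≫ B.base.hom) ⟶ Spec (CommRingCat.of Ω) := pullback.snd _ _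
  let μ' : B.C ⟶ pullback X.hom (t.inv ≫ B.base.hom) := pullback.lift B.map q (by simp [q, B.map_over])
  have hfin := finite_aut q (CurvSt.markedPt B.sect B.sect_f hP) B.map hst p μ' (pullback.lift_snd _ _ _)
    (pullback.fst _ _) (pullback.lift_fst _ _ _)
  have hfin' := hfin.to_subtype
  have hmark : ∀ i, CurvSt.markedPt B.sect B.sect_f hP i = (t.inv ≫ B.sect i) (IsLocalRing.closedPoint Ω) := by
    intro i
    have h1 : hP.lift (t.inv ≫ B.sect i) (𝟙 _) (by
      rw [Category.assoc, B.sect_f, Category.comp_id, Category.id_comp]) = t.inv ≫ B.sect i := by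
      have h2 := hP.lift_fst (t.inv ≫ B.sect i) (𝟙 _) (by
        rw [Category.assoc, B.sect_f, Category.comp_id, Category.id_comp])
      rwa [Category.comp_id] at h2
    rw [CurvSt.markedPt, h1]
  have hbase : ∀ φ : A ⟶ B, φ.hom.base = b.hom → φ.hom.base.left = b.hom.left := fun φ h => by rw [h]
  let F : {φ : A ⟶ B // φ.hom.base = b.hom} →
      {φ : B.C ≅ B.C | φ.hom ≫ q = q ∧ (∀ i, φ.hom (CurvSt.markedPt B.sect B.sect_f hP i) =
        CurvSt.markedPt B.sect B.sect_f hP i) ∧ φ.hom ≫ μ' = μ'} := fun φ =>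
    have := hiso φ.1 φ.2
    ⟨(asIso φ₀.hom.top).symm ≪≫ asIso φ.1.hom.top, by
      have hf : inv φ₀.hom.top ≫ φ.1.hom.top ≫ B.f = B.f := by
        rw [IsIso.inv_comp_eq, φ.1.hom.cart.w, φ₀.hom.cart.w, hbase _ φ.2, hbase _ hφ₀]
      have hm : inv φ₀.hom.top ≫ φ.1.hom.top ≫ B.map = B.map := by
        rw [IsIso.inv_comp_eq, φ.1.w_map, φ₀.w_map]
      refine ⟨?_, fun i => ?_, ?_⟩
      · simp only [Iso.trans_hom, Iso.symm_hom, asIso_inv, asIso_hom, q, Category.assoc]
        rw [reassoc_of% hf]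
      · have hs : B.sect i ≫ inv φ₀.hom.top ≫ φ.1.hom.top = B.sect i := by
          have h1 : b.hom.left ≫ B.sect i ≫ inv φ₀.hom.top = A.sect i := by
            rw [← Category.assoc, IsIso.comp_inv_eq, φ₀.hom.w_sect, hbase _ hφ₀]
          have h2 : b.hom.left ≫ B.sect i ≫ inv φ₀.hom.top ≫ φ.1.hom.top = b.hom.left ≫ B.sect i := by
            rw [← Category.assoc (B.sect i), ← Category.assoc b.hom.left, h1, φ.1.hom.w_sect, hbase _ φ.2]
          exact (cancel_epi b.hom.left).mp h2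
        rw [hmark]
        have h3 : (t.inv ≫ B.sect i) ≫ ((asIso φ₀.hom.top).symm ≪≫ asIso φ.1.hom.top).hom = t.inv ≫ B.sect i := by
          simp only [Iso.trans_hom, Iso.symm_hom, asIso_inv, asIso_hom, Category.assoc]
          rw [hs]
        exact congrArg (fun z : Spec (CommRingCat.of Ω) ⟶ B.C => z (IsLocalRing.closedPoint Ω)) h3
      · refine pullback.hom_ext ?_ ?_
        · simp only [Iso.trans_hom, Iso.symm_hom, asIso_inv, asIso_hom, Category.assoc, μ', pullback.lift_fst]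
          exact hm
        · simp only [Iso.trans_hom, Iso.symm_hom, asIso_inv, asIso_hom, Category.assoc, μ', pullback.lift_snd, q]
          rw [reassoc_of% hf]⟩
  refine Finite.of_injective F ?_
  intro φ φ' h
  apply Subtype.ext
  apply StMap.MapFamObj.hom_ext
  apply CurvSt.PtFamObj.hom_ext
  · rw [φ.2, φ'.2]
  · have := hiso φ.1 φ.2
    have := hiso φ'.1 φ'.2
    have h1 : (F φ).1.hom = (F φ').1.hom := by rw [h]
    have h2 : inv φ₀.hom.top ≫ φ.1.hom.top = inv φ₀.hom.top ≫ φ'.1.hom.top := h1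
    exact (cancel_epi _).mp h2

/-- A scheme over a field of characteristic zero has residue fields of characteristic zero. -/
theorem charZero_of_hom {k : Type u} [Field k] [CharZero k] {Ω : Type u} [Field Ω]
    (s : Spec (CommRingCat.of Ω) ⟶ Spec (CommRingCat.of k)) : CharZero Ω := by
  obtain ⟨f, -⟩ := Spec.map_surjective s
  exact charZero_of_injective_ringHom (f := f.hom) f.hom.injective

/-- Automorphisms over the base. -/
theorem finite_aut_obj [IsSeparated X.hom] {Ω : Type u} [Field Ω] [IsAlgClosed Ω] [CharZero Ω]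
    (A : StMap.MapFamObj S n X) (t : A.base.left ≅ Spec (CommRingCat.of Ω))
    (hA : StMap.IsStableMapFam A.f A.sect A.sect_f A.map 0) : Finite {φ : A ⟶ A // φ.hom.base = 𝟙 A.base} :=
  finite_hom A A (Iso.refl _) t hA

/-- The form for the category of stable maps. -/
theorem finite_hom_mapSt [IsSeparated X.hom] {L : X.left.Modules} {d : ℤ} {Ω : Type u} [Field Ω] [IsAlgClosed Ω]
    [CharZero Ω] (A B : (StMap.MapSt S X L 0 n d).obj) (b : A.obj.base ≅ B.obj.base)
    (t : B.obj.base.left ≅ Spec (CommRingCat.of Ω)) : Finite {φ : A ⟶ B // φ.hom.hom.base = b.hom} := by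
  have h1 := finite_hom A.obj B.obj b t B.property.1
  refine Finite.of_injective (fun φ : {φ : A ⟶ B // φ.hom.hom.base = b.hom} =>
    (⟨φ.1.hom, φ.2⟩ : {φ : A.obj ⟶ B.obj // φ.hom.base = b.hom})) ?_
  intro φ φ' h
  apply Subtype.ext
  apply ObjectProperty.hom_ext
  exact congrArg Subtype.val h

/-- Objects over a field of characteristic zero. -/
theorem finite_hom_of_field {k : Type u} [Field k] [CharZero k] {X : Over (Spec (CommRingCat.of k))} [IsSeparated X.hom]
    {L : X.left.Modules} {d : ℤ} {Ω : Type u} [Field Ω] [IsAlgClosed Ω]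
    (A B : (StMap.MapSt (Spec (CommRingCat.of k)) X L 0 n d).obj) (b : A.obj.base ≅ B.obj.base)
    (t : B.obj.base.left ≅ Spec (CommRingCat.of Ω)) : Finite {φ : A ⟶ B // φ.hom.hom.base = b.hom} := by
  have := charZero_of_hom (t.inv ≫ B.obj.base.hom)
  exact finite_hom_mapSt A B b t

end Family

end K314.AutFin
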