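import Groth.Agent.Fano.K314.CrvPull
import Groth.Agent.Fano.K655.CrvDens

/-!
# The points with smooth fibre in an étale base change of a chart
-/

set_option autoImplicit false
set_option backward.isDefEq.respectTransparency false

universe u

open CategoryTheory CategoryTheory.Limits AlgebraicGeometry

namespace K314.CrvDense

open K505.KonDef K314.CrvPull K655.CrvDens

variable {k : Type u} [Field k] {N : ℕ}

/-- The points with smooth fibre are compatible with morphisms of families between charts. -/
theorem mem_smPts_iff {c c' : CrvChart k N} (b : c'.B ⟶ c.B) (w : c'.U.left) : w ∈ smPts c' ↔ b.base.left w ∈ smPts c := by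
  let x := c'.U.left.fromSpecResidueField w
  have sq : IsPullback (pullback.fst c'.f x) (pullback.snd c'.f x) c'.f x := IsPullback.of_hasPullback _ _
  have hr : Set.range x = {w} := Scheme.range_fromSpecResidueField w
  have h1 := smooth_iff c' sq
  have h2 := smooth_iff c (sq.paste_horiz b.cart)
  rw [hr, Set.singleton_subset_iff] at h1
  have hr2 : Set.range (x ≫ b.base.left) = {b.base.left w} := by
    rw [Scheme.Hom.comp_base, TopCat.coe_comp, Set.range_comp, hr, Set.image_singleton]
  rw [hr2, Set.singleton_subset_iff] at h2
  exact h1.symm.trans h2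

/-- Density is preserved under étale base change. -/
theorem dense_of_hom {c c' : CrvChart k N} (b : c'.B ⟶ c.B) [Etale b.base.left] (h : Dense (smPts c)) : Dense (smPts c') := by
  have h1 : smPts c' = b.base.left ⁻¹' smPts c := Set.ext fun w => mem_smPts_iff b w
  rw [h1]
  exact h.preimage b.base.left.isOpenMap

theorem dense_pull (c : CrvChart k N) {V : Over (Spec (CommRingCat.of k))} (j : V ⟶ c.U) [Etale j.left]
    [IsAffine V.left] (h : Dense (smPts c)) : Dense (smPts (pull c j)) := by
  have : Etale (bcHom c.B j).base.left := ‹Etale j.left›
  exact dense_of_hom (c := c) (c' := pull c j) (bcHom c.B j) h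

/-- Stability of the fibres passes to every chart with a morphism. -/
theorem stable_of_hom {c c' : CrvChart k N} (b : c'.B ⟶ c.B) (h : CurvSt.IsStableFam c.B.f c.B.sect c.B.sect_f 0) :
    CurvSt.IsStableFam c'.B.f c'.B.sect c'.B.sect_f 0 :=
  K655.CrvMbar.stable_of_hom b h

end K314.CrvDense
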