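import Groth.Agent.Fano.K505.KonDef
import Groth.Agent.Fano.K655.MapPre

/-!
# Étale base change of the charts of the stack of prestable curves
-/

set_option autoImplicit false
set_option backward.isDefEq.respectTransparency false

universe u

open CategoryTheory CategoryTheory.Limits AlgebraicGeometry

namespace K314.CrvPull

open K505.KonDef

section Fam

variable {S : Scheme.{u}} {n : ℕ}

/-- The base change of a pointed family. -/
noncomputable def bc (A : CurvSt.PtFamObj S n) {V : Over S} (f : V ⟶ A.base) : CurvSt.PtFamObj S n where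
  base := V
  C := pullback A.f f.left
  f := pullback.snd A.f f.left
  sect i := pullback.lift (f.left ≫ A.sect i) (𝟙 _) (by
    rw [Category.assoc, A.sect_f, Category.comp_id, Category.id_comp])
  sect_f i := pullback.lift_snd _ _ _

/-- The projection from the base change. -/
noncomputable def bcHom (A : CurvSt.PtFamObj S n) {V : Over S} (f : V ⟶ A.base) : bc A f ⟶ A where
  base := f
  top := pullback.fst A.f f.left
  cart := IsPullback.of_hasPullback _ _
  w_sect _ := pullback.lift_fst _ _ _

/-- Factorization through an arrow of pointed families. -/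
theorem existsUnique_fac {A B A' : CurvSt.PtFamObj S n} (φ : A ⟶ B) (g : A'.base ⟶ A.base) (ψ : A' ⟶ B)
    (hb : g ≫ φ.base = ψ.base) : ∃! χ : A' ⟶ A, χ.base = g ∧ χ ≫ φ = ψ := by
  have hbb : g.left ≫ φ.base.left = ψ.base.left := congrArg CommaMorphism.left hb
  have hw : ψ.top ≫ B.f = (A'.f ≫ g.left) ≫ φ.base.left := by
    rw [ψ.cart.w, Category.assoc, hbb]
  have hsq : IsPullback (φ.cart.lift ψ.top (A'.f ≫ g.left) hw) A'.f A.f g.left := by
    refine IsPullback.of_right ?_ (φ.cart.lift_snd _ _ _) φ.cart
    rw [φ.cart.lift_fst, hbb]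
    exact ψ.cart
  refine ⟨{ base := g, top := φ.cart.lift ψ.top (A'.f ≫ g.left) hw, cart := hsq, w_sect := fun i => ?_ }, ⟨rfl, ?_⟩, ?_⟩
  · refine φ.cart.hom_ext ?_ ?_
    · rw [Category.assoc, φ.cart.lift_fst, ψ.w_sect, Category.assoc, φ.w_sect, ← hbb, Category.assoc]
    · rw [Category.assoc, φ.cart.lift_snd, ← Category.assoc, A'.sect_f, Category.id_comp, Category.assoc, A.sect_f,
        Category.comp_id]
  · exact CurvSt.PtFamObj.hom_ext hb (φ.cart.lift_fst _ _ _)
  · rintro χ ⟨h1, h2⟩
    refine CurvSt.PtFamObj.hom_ext h1 (φ.cart.hom_ext ?_ ?_)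
    · rw [φ.cart.lift_fst, ← h2]
      rfl
    · rw [φ.cart.lift_snd, χ.cart.w, h1]

/-- Base change of prestable families. -/
theorem IsPre.of_hom {A B : CurvSt.PtFamObj S n} (φ : A ⟶ B) (h : IsPre B) : IsPre A := by
  obtain ⟨h1, h2, h3, h4⟩ := h
  refine ⟨MorphismProperty.of_isPullback (P := @Flat) φ.cart h1,
    MorphismProperty.of_isPullback (P := @IsProper) φ.cart h2,
    MorphismProperty.of_isPullback (P := @LocallyOfFinitePresentation) φ.cart h3, ?_⟩
  intro Ω _ _ t Xt i q hP
  have := h4 Ω _ Xt _ q (hP.paste_horiz φ.cart)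
  rw [← K655.MapPre.markedPt_paste (hσ' := A.sect_f) φ.cart φ.w_sect hP] at this
  exact this

end Fam

section Chart

variable {k : Type u} [Field k] {N : ℕ}

/-- Étale base change of a chart. -/
noncomputable def pull (c : CrvChart k N) {V : Over (Spec (CommRingCat.of k))} (j : V ⟶ c.U) [hj : Etale j.left]
    [hV : IsAffine V.left] : CrvChart k N where
  B := bc c.B j
  isPre := IsPre.of_hom (bcHom c.B j) c.isPre
  isAffine := hV
  locallyOfFiniteType := by
    have := c.locallyOfFiniteType
    change LocallyOfFiniteType V.hom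
    rw [← Over.w j]
    infer_instance
  prod := by
    intro Y hY
    obtain ⟨Z, α, β, hZ, hβ⟩ := c.prod Y hY
    let W : Over (Spec (CommRingCat.of k)) := Over.mk (pullback.fst α.base.left j.left ≫ Z.base.hom)
    let w : W ⟶ Z.base := Over.homMk (pullback.fst α.base.left j.left) rfl
    let v : W ⟶ V := Over.homMk (pullback.snd α.base.left j.left) (by
      change pullback.snd _ _ ≫ V.hom = pullback.fst _ _ ≫ Z.base.hom
      rw [← Over.w j, ← Category.assoc, ← pullback.condition, Category.assoc, Over.w α.base])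
    have hwv : w ≫ α.base = v ≫ j := Over.OverMorphism.ext (pullback.condition)
    obtain ⟨a, ⟨ha1, ha2⟩, -⟩ := existsUnique_fac (bcHom c.B j) (A' := bc Z w) v (bcHom Z w ≫ α) hwv.symm
    refine ⟨bc Z w, a, bcHom Z w ≫ β, ?_, ?_⟩
    · intro Z' a' b'
      obtain ⟨z, ⟨hz1, hz2⟩, hz3⟩ := hZ Z' (a' ≫ bcHom c.B j) b'
      have hb : z.base ≫ α.base = a'.base ≫ j := by
        have := congrArg CurvSt.PtFamObj.Hom.base hz1
        exact this
      let g : Z'.base ⟶ W := Over.homMk (pullback.lift z.base.left a'.base.left (congrArg CommaMorphism.left hb)) (by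
        change pullback.lift _ _ _ ≫ pullback.fst _ _ ≫ Z.base.hom = _
        rw [pullback.lift_fst_assoc, Over.w z.base])
      have hg : g ≫ w = z.base := Over.OverMorphism.ext (pullback.lift_fst _ _ _)
      have hg' : g ≫ v = a'.base := Over.OverMorphism.ext (pullback.lift_snd _ _ _)
      obtain ⟨χ, ⟨h1, h2⟩, h3⟩ := existsUnique_fac (bcHom Z w) (A' := Z') g z hg
      have hχa : χ ≫ a = a' := by
        obtain ⟨u, -, hu⟩ := existsUnique_fac (bcHom c.B j) (A' := Z') a'.base (a' ≫ bcHom c.B j) rfl
        have e1 := hu (χ ≫ a) ⟨by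
          change χ.base ≫ a.base = a'.base
          rw [h1, ha1, hg'], by rw [Category.assoc, ha2, ← Category.assoc, h2, hz1]⟩
        have e2 := hu a' ⟨rfl, rfl⟩
        rw [e1, e2]
      refine ⟨χ, ⟨hχa, by rw [← Category.assoc, h2, hz2]⟩, ?_⟩
      rintro χ' ⟨h4, h5⟩
      have h6 : χ' ≫ bcHom Z w = z := hz3 _ ⟨by
        rw [Category.assoc, ← ha2, ← Category.assoc, h4], by
        rw [Category.assoc, h5]⟩
      refine h3 χ' ⟨?_, h6⟩
      have e1 : χ'.base ≫ w = z.base := congrArg CurvSt.PtFamObj.Hom.base h6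
      have e2 : χ'.base ≫ v = a'.base := by
        rw [← ha1]
        exact congrArg CurvSt.PtFamObj.Hom.base h4
      apply Over.OverMorphism.ext
      refine pullback.hom_ext ?_ ?_
      · have := congrArg CommaMorphism.left (e1.trans hg.symm)
        exact this
      · have := congrArg CommaMorphism.left (e2.trans hg'.symm)
        exact this
    · have : Etale (pullback.fst α.base.left j.left) := inferInstance
      change Etale (pullback.fst α.base.left j.left ≫ β.base.left)
      infer_instance

theorem pull_B (c : CrvChart k N) {V : Over (Spec (CommRingCat.of k))} (j : V ⟶ c.U) [Etale j.left]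
    [IsAffine V.left] : (pull c j).B = bc c.B j := rfl

end Chart

end K314.CrvPull
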