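import Groth.Agent.Fano.K239.HonDef
import Groth.Agent.CAlg.K58.RadGen
import Groth.Agent.CAlg.K76.Geom
import Groth.Agent.Localalg.GrpSchComp

/-!
# The ring of the maps from the projective line to a hypersurface, base change (S16940, node HD1)

* `HR G d e R`: the ring of the maps of degree `e` over `R` (the same as `K239.PlanHon.HR`);
* `honP_map`: the equations under a ring homomorphism;
* `nonempty_algEquiv`: `R ⊗ HR G d e k = HR G d e R`;
* `irreducibleSpace_HR`: node HD1.
-/

set_option autoImplicit false

universe u

open CategoryTheory CategoryTheory.Limits AlgebraicGeometry TensorProduct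

namespace K314.HonHR

open K239.HonDef

variable {k : Type u} [Field k] {n : ℕ} (G : MvPolynomial (Fin (n + 1)) k) (d e : ℕ)

/-- The ring of the maps over `R`. -/
abbrev HR (R : Type u) [CommRing R] [Algebra k R] : Type u :=
  MvPolynomial (Fin (n + 1) × Fin (e + 1)) R ⧸ Ideal.span (Set.range (honP (algebraMap k R) G d e))

variable {R S : Type u} [CommRing R] [CommRing S]

theorem genPt_map (f : R →+* S) (l : Fin (n + 1)) :
    (genPt R n e l).map (MvPolynomial.map f) = genPt S n e l := by
  unfold genPt
  rw [Polynomial.map_sum]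
  refine Finset.sum_congr rfl fun j _ => ?_
  rw [Polynomial.map_mul, Polynomial.map_pow, Polynomial.map_C, Polynomial.map_X, MvPolynomial.map_X]

/-- The equations under a ring homomorphism. -/
theorem honP_map (φ : k →+* R) (f : R →+* S) (m : Fin (d * e + 1)) :
    MvPolynomial.map f (honP φ G d e m) = honP (f.comp φ) G d e m := by
  unfold honP
  rw [← Polynomial.coeff_map, ← Polynomial.coe_mapRingHom, MvPolynomial.hom_eval₂]
  congr 1
  have h1 : (Polynomial.mapRingHom (MvPolynomial.map (σ := Fin (n + 1) × Fin (e + 1)) f)).comp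
      (Polynomial.C.comp (MvPolynomial.C.comp φ)) = Polynomial.C.comp (MvPolynomial.C.comp (f.comp φ)) := by
    ext a
    simp
  rw [h1]
  congr 1
  funext l
  exact genPt_map e f l

theorem span_map [Algebra k R] : (Ideal.span (Set.range (honP (algebraMap k k) G d e))).map (MvPolynomial.map (algebraMap k R)) =
    Ideal.span (Set.range (honP (algebraMap k R) G d e)) := by
  rw [Ideal.map_span, ← Set.range_comp]
  congr 2
  funext m
  change MvPolynomial.map (algebraMap k R) (honP (algebraMap k k) G d e m) = _
  rw [honP_map]
  congr 1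

/-- Base change of the ring of the maps. -/
theorem nonempty_algEquiv (R : Type u) [CommRing R] [Algebra k R] : Nonempty (R ⊗[k] HR G d e k ≃ₐ[R] HR G d e R) := by
  obtain ⟨ε⟩ := K58.RadGen.nonempty_algEquiv (Fin (n + 1) × Fin (e + 1)) k R (Ideal.span (Set.range (honP (algebraMap k k) G d e)))
  exact ⟨ε.trans (Ideal.quotientEquivAlgOfEq R (span_map G d e))⟩

/-- Node HD1. -/
theorem irreducibleSpace_HR [IsAlgClosed k] (R : Type u) [CommRing R] [IsDomain R] [Algebra k R]
    (h : IrreducibleSpace (PrimeSpectrum (HR G d e k))) : IrreducibleSpace (PrimeSpectrum (HR G d e R)) := by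
  obtain ⟨ε⟩ := nonempty_algEquiv G d e R
  have h1 : IrreducibleSpace (Spec (CommRingCat.of (HR G d e k))) := h
  have h2 := K76.Geom.irr_to (k := k) (S := HR G d e k)
    (Groth.Agent.Localalg.GrpSchComp.geometricallyIrreducible_of_irreducibleSpace _) R
  exact (PrimeSpectrum.homeomorphOfRingEquiv ε.toRingEquiv).irreducibleSpace_iff.mp h2

end K314.HonHR
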