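import Groth.Agent.Fano.K314.Hsurj
import Groth.Agent.Fano.K655.CrvDens

/-!
# Surjectivity of the linear charts with a dense smooth part
-/

set_option autoImplicit false
set_option backward.isDefEq.respectTransparency false

universe u

open CategoryTheory CategoryTheory.Limits AlgebraicGeometry

namespace K314.HsurjD

open K505.KonDef

variable {k : Type u} [Field k] {n d : ℕ} (G : LefPen.Form n k d) (r e : ℕ)

/-- Every stable map over an algebraically closed field has a datum for some linear chart over a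
chart of pointed curves whose smooth curves are dense. -/
def PtData : Prop :=
  ∀ (Ω : Type u) [Field Ω] [IsAlgClosed Ω] (t : Spec (CommRingCat.of Ω) ⟶ Spec (CommRingCat.of k))
    (Y : (Mst G r e).obj), Y.obj.base = Over.mk t →
    ∃ (m : ℕ) (c : CrvChart k (r + m)) (ℓ : LinChart c G e), Dense (K655.CrvDens.smPts c) ∧ Nonempty (Datum ℓ Y.obj)

variable {G r e}

theorem PtData.weak (h : PtData G r e) : Hsurj.PtData G r e := fun Ω _ _ t Y hY =>
  let ⟨m, c, ℓ, _, D⟩ := h Ω t Y hY
  ⟨m, c, ℓ, D⟩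

/-- Every field valued point of the category of stable maps is geometrically a point of the base of a
universal family over a chart of pointed curves whose smooth curves are dense. -/
theorem hsurj (hU : ∀ (m : ℕ) (c : CrvChart k (r + m)) (ℓ : LinChart c G e), Nonempty (Univ ℓ)) (hPt : PtData G r e)
    (p : AlgSt.FPt (Mst G r e)) :
    ∃ (m : ℕ) (c : CrvChart k (r + m)) (ℓ : LinChart c G e) (Un : Univ ℓ) (q : AlgSt.FPt (Mst G r e)),
      Dense (K655.CrvDens.smPts c) ∧ Nonempty (q.obj ⟶ p.obj) ∧ Nonempty (q.obj ⟶ Un.A) := by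
  let Ω := AlgebraicClosure p.K
  let s : Spec (CommRingCat.of Ω) ⟶ Spec (CommRingCat.of p.K) := Spec.map (CommRingCat.ofHom (algebraMap p.K Ω))
  have hl : p.obj.obj.base = Over.mk p.str := p.lies
  let f : Over.mk (s ≫ p.str) ⟶ p.obj.obj.base := (Over.homMk s rfl : Over.mk (s ≫ p.str) ⟶ Over.mk p.str) ≫ eqToHom hl.symm
  let Y : (Mst G r e).obj := ⟨K655.MapPre.bc p.obj.obj f,
    K655.MapPre.stable_cond _ _ _ _ _ _ (K655.MapPre.bcHom p.obj.obj f) p.obj.property⟩
  let θ : Y ⟶ p.obj := ObjectProperty.homMk (K655.MapPre.bcHom p.obj.obj f)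
  obtain ⟨m, c, ℓ, hd, ⟨D⟩⟩ := hPt Ω (s ≫ p.str) Y rfl
  obtain ⟨Un⟩ := hU m c ℓ
  obtain ⟨g, -, -⟩ := Un.univ Y D
  exact ⟨m, c, ℓ, Un, { K := Ω, str := s ≫ p.str, obj := Y, lies := rfl }, hd, ⟨θ⟩, ⟨g⟩⟩

end K314.HsurjD
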