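import Groth.Agent.Fano.K314.HsurjD
import Groth.Agent.Fano.K11.UnivMain
import Groth.Agent.Fano.K723.PtData

/-!
# Surjectivity of the linear charts, without hypotheses
-/

set_option autoImplicit false
set_option backward.isDefEq.respectTransparency false

universe u

open CategoryTheory CategoryTheory.Limits AlgebraicGeometry

namespace K314.HsurjU

open K505.KonDef

variable {k : Type u} [Field k] {n d : ℕ} {G : LefPen.Form n k d} {r e : ℕ}

/-- Every field valued point of the category of stable maps of positive degree is geometrically a point of the base of a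
universal family over a chart of pointed curves whose smooth curves are dense. -/
theorem hsurj (he : 1 ≤ e) (p : AlgSt.FPt (Mst G r e)) :
    ∃ (m : ℕ) (c : CrvChart k (r + m)) (ℓ : LinChart c G e) (Un : Univ ℓ) (q : AlgSt.FPt (Mst G r e)),
      Dense (K655.CrvDens.smPts c) ∧ Nonempty (q.obj ⟶ p.obj) ∧ Nonempty (q.obj ⟶ Un.A) :=
  HsurjD.hsurj (fun _ _ ℓ => K11.UnivMain.nonempty_univ ℓ he) (K723.PtData.ptData he) p

end K314.HsurjU
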