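import Groth.Agent.Fano.K314.CrvPull

/-!
# Restriction of a chart of curves to an affine open; data from isomorphisms of modules
-/

set_option autoImplicit false
set_option backward.isDefEq.respectTransparency false

universe u

open CategoryTheory CategoryTheory.Limits AlgebraicGeometry

namespace K314.Restr

open K390.PnSec Groth.Agent.Fdesc.LocGen K505.KonDef K314.CrvPull K188.LineDef K745.ConDef W4swstmapratcurves
open Groth.Agent.Ega2.H295.PnUniq Groth.Agent.Ega2.H295.PnCoord

variable {k : Type u} [Field k] {N : ℕ}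

/-- Restriction of a chart to an affine open of its base (node C1 of `K723.PlanL`). -/
theorem exists_restr (c : CrvChart k N) (V : c.U.left.Opens) (hV : IsAffineOpen V) :
    ∃ (c' : CrvChart k N) (b : c'.B ⟶ c.B), IsOpenImmersion b.base.left ∧
      Set.range b.base.left = (V : Set c.U.left) ∧
      ∀ (A : CurvSt.PtFamObj (Spec (CommRingCat.of k)) N) (h : A ⟶ c.B), Set.range h.base.left ⊆ (V : Set c.U.left) →
        ∃ h' : A ⟶ c'.B, h' ≫ b = h := by
  let W : Over (Spec (CommRingCat.of k)) := Over.mk (V.ι ≫ c.U.hom)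
  let j : W ⟶ c.U := Over.homMk V.ι rfl
  have hj : Etale j.left := inferInstanceAs (Etale V.ι)
  have hW : IsAffine W.left := hV
  refine ⟨pull c j, bcHom c.B j, inferInstanceAs (IsOpenImmersion V.ι), Scheme.Opens.range_ι V, ?_⟩
  intro A h hr
  have hl : Set.range h.base.left ⊆ Set.range V.ι := by rwa [Scheme.Opens.range_ι]
  let g : A.base ⟶ W := Over.homMk (IsOpenImmersion.lift V.ι h.base.left hl) (by
    change IsOpenImmersion.lift V.ι h.base.left hl ≫ V.ι ≫ c.U.hom = A.base.hom
    rw [IsOpenImmersion.lift_fac_assoc, Over.w h.base])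
  have hg : g ≫ j = h.base := Over.OverMorphism.ext (IsOpenImmersion.lift_fac _ _ _)
  obtain ⟨χ, ⟨-, h2⟩, -⟩ := existsUnique_fac (bcHom c.B j) (A' := A) g h hg
  exact ⟨χ, h2⟩

variable {n d r m e : ℕ} {G : LefPen.Form n k d}

/-- A family of maps with more sections, a cartesian morphism to the universal curve of a linear chart and an isomorphism of
`O(1)` with the module of the chart has a datum. -/
theorem nonempty_datum {c : CrvChart k (r + m)} {ℓ : LinChart c G e} {A : Fam G r} (y : Fin m → (A.base.left ⟶ A.C))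
    (hy : ∀ i, y i ≫ A.f = 𝟙 A.base.left) (h : addM A.toPtFamObj y hy ⟶ c.B)
    (τ : (Scheme.Modules.pullback (A.map ≫ (LefPen.hypIdeal G).subschemeι)).obj (O1 n k) ≅
      (Scheme.Modules.pullback h.top).obj ℓ.L) : Nonempty (Datum ℓ A) := by
  choose φ hφ using fun l : Fin (n + 1) => (ℓ.basis h.top A.f h.base.left h.cart
    (τ.hom.app ⊤ (tsec (A.map ≫ (LefPen.hypIdeal G).subschemeι) l))).exists
  exact ⟨{ y := y, hy := hy, h := h, φ := φ, givenBy := ⟨τ, fun l => hφ l⟩ }⟩

end K314.Restr
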