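import Groth.Agent.Fano.K314.AutFin
import Groth.Agent.Fano.K505.KonDef
import Groth.Agent.Ega3B.PullTensor
import Groth.Agent.Fdesc.LocGenGlue
import Groth.Agent.Dix.Cast2

/-!
# Components on which a power of `L = O(Σ b_j y_j)` is trivial have three special points among the `x_i` and the nodes
-/

set_option autoImplicit false

universe u

open CategoryTheory CategoryTheory.Limits AlgebraicGeometry TopologicalSpace

namespace K314.Stab

open K390.PnSec Groth.Agent.Fdesc.LocGen K505.KonDef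

section Curve

variable {Ω : Type u} [Field Ω] {X : Scheme.{u}} (q : X ⟶ Spec (CommRingCat.of Ω))

/-- On a projective line, a section of a trivial module generates everywhere or nowhere. -/
theorem subset_genLocus {E : Set X} (hE : CurvSt.IsSmRatComp Ω X q E) {N : X.Modules} (hN : PicF.IsInvertible N)
    (v s : Γ(N, ⊤)) (hv : E ⊆ (CohB1.genLocus N (homOf v) : Set X)) {z : X} (hz : z ∈ E)
    (hs : z ∈ CohB1.genLocus N (homOf s)) : E ⊆ (CohB1.genLocus N (homOf s) : Set X) := by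
  obtain ⟨-, e, -, -, he⟩ := hE
  have hv' : IsGen (pullTop e v) := by
    have h1 : (⊤ : (CohB1.ProjSpace 1 Ω).Opens) ≤ CohB1.genLocus _ (homOf (pullTop e v)) := by
      rw [genLocus_pullTop e hN v]
      intro y _
      exact hv (by rw [← he]; exact ⟨y, rfl⟩)
    rw [le_genLocus_iff, sec_homOf] at h1
    simpa using h1
  obtain ⟨a, ha⟩ := hv'.exists_eq (pullTop e s)
  have h2 := genLocus_inf_eq (homOf (pullTop e s)) hv' (a := a) (by rw [sec_homOf]; simpa using ha)
  rw [inf_top_eq, genLocus_pullTop e hN s] at h2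
  rw [← he] at hz
  obtain ⟨y, rfl⟩ := hz
  have hy : y ∈ (CohB1.ProjSpace 1 Ω).basicOpen a := by
    rw [← h2]
    exact hs
  have ha0 : a ≠ 0 := by
    rintro rfl
    rw [Scheme.basicOpen_zero] at hy
    exact hy
  obtain ⟨b, hb⟩ := (Groth.Agent.Dix.Cast2.wp2_isField (k := Ω)).mul_inv_cancel ha0
  have hu : IsUnit a := IsUnit.of_mul_eq_one b hb
  rw [Scheme.basicOpen_of_isUnit _ hu] at h2
  rw [← he]
  rintro _ ⟨w, rfl⟩
  have h3 : w ∈ e ⁻¹ᵁ CohB1.genLocus N (homOf s) := by rw [h2]; trivial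
  exact h3

/-- If `L^(⊗ a) ≅ N`, `0 < a`, `L` is generated on the component `E` by one section, `s` is a section of `N` generating
exactly off a finite set of closed points, then none of these points is on `E`. -/
theorem notMem [IsAlgClosed Ω] {E : Set X} (hE : CurvSt.IsSmRatComp Ω X q E) {L N : X.Modules}
    (hL : PicF.IsInvertible L) (hN : PicF.IsInvertible N) {a : ℕ} (w : CohB1.tensorPow L (a + 1) ≅ N) (v : Γ(L, ⊤))
    (hv : E ⊆ (CohB1.genLocus L (homOf v) : Set X)) (s : Γ(N, ⊤)) {F : Set X} (hF : F.Finite)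
    (hs : ∀ z, z ∈ CohB1.genLocus N (homOf s) ↔ z ∉ F) : ∀ z ∈ F, z ∉ E := by
  have hinf : ∃ z ∈ E, z ∉ F := by
    obtain ⟨-, e, he1, -, he⟩ := hE
    have h1 := K314.AutFin.infinite_closed e he
    obtain ⟨z, hz, hzF⟩ := h1.exists_notMem_finite hF
    exact ⟨z, hz.1, hzF⟩
  obtain ⟨z₀, hz₀, hz₀F⟩ := hinf
  let v' : Γ(N, ⊤) := w.hom.app ⊤ (sec (powHom (homOf v) (a + 1)) ⊤)
  have hv' : CohB1.genLocus N (homOf v') = CohB1.genLocus L (homOf v) := by
    rw [genLocus_app, ← genLocus_powHom hL (homOf v) a, homOf_sec]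
  have h1 := subset_genLocus q hE hN v' s (by rw [hv']; exact hv) hz₀ ((hs z₀).mpr hz₀F)
  intro z hzF hzE
  exact (hs z).mp (h1 hzE) hzF

end Curve

section Fibre

variable {C T : Scheme.{u}} {f : C ⟶ T} {Ω : Type u} [Field Ω] {t : Spec (CommRingCat.of Ω) ⟶ T} {X : Scheme.{u}}
  {i : X ⟶ C} {q : X ⟶ Spec (CommRingCat.of Ω)}

/-- The points of a geometric fibre on a section. -/
theorem mem_range_iff (hP : IsPullback i q f t) {N : ℕ} (σ : Fin N → (T ⟶ C)) (hσ : ∀ j, σ j ≫ f = 𝟙 T) (j : Fin N)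
    (z : X) : i z ∈ Set.range (σ j) ↔ z = CurvSt.markedPt σ hσ hP j := by
  have hw : (t ≫ σ j) ≫ f = 𝟙 _ ≫ t := by rw [Category.assoc, hσ, Category.comp_id, Category.id_comp]
  have h1 : IsPullback (hP.lift (t ≫ σ j) (𝟙 _) hw) t i (σ j) := by
    refine IsPullback.of_right ?_ (hP.lift_fst _ _ _) hP.flip
    rw [hP.lift_snd, hσ]
    exact IsPullback.of_horiz_isIso ⟨by simp⟩
  have h2 : Set.range (hP.lift (t ≫ σ j) (𝟙 _) hw) = i ⁻¹' Set.range (σ j) := by
    rw [← Scheme.Pullback.range_fst, ← h1.isoPullback_hom_fst, Scheme.Hom.comp_base, TopCat.coe_comp, Set.range_comp,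
      Set.range_eq_univ.mpr h1.isoPullback.hom.surjective, Set.image_univ]
  have h3 : i z ∈ Set.range (σ j) ↔ z ∈ Set.range (hP.lift (t ≫ σ j) (𝟙 _) hw) := by rw [h2]; rfl
  rw [h3]
  constructor
  · rintro ⟨y, rfl⟩
    have : Subsingleton (Spec (CommRingCat.of Ω)) := inferInstanceAs (Subsingleton (PrimeSpectrum Ω))
    rw [Subsingleton.elim y (IsLocalRing.closedPoint Ω)]
    rfl
  · rintro rfl
    exact ⟨_, rfl⟩

end Fibre

section Main

variable {k : Type u} [Field k] {r m : ℕ} (c : CrvChart k (r + m))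

/-- The field `stab` of a linear chart: it is enough that a power of `L` has a section generating exactly off the last `m`
sections, if the fibres are stable with all the points. -/
theorem stab (hst : CurvSt.IsStableFam c.B.f c.B.sect c.B.sect_f 0) {L N : c.C.Modules} (hL : PicF.IsInvertible L)
    (hN : PicF.IsInvertible N) {a : ℕ} (w : Nonempty (CohB1.tensorPow L (a + 1) ≅ N)) (s : Γ(N, ⊤))
    (hs : ∀ z : c.C, z ∈ CohB1.genLocus N (homOf s) ↔ ∀ j : Fin m, z ∉ Set.range (c.B.sect (Fin.natAdd r j)))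
    (Ω : Type u) [Field Ω] [IsAlgClosed Ω] (t : Spec (CommRingCat.of Ω) ⟶ c.U.left) (Xt : Scheme.{u})
    (i : Xt ⟶ c.C) (q : Xt ⟶ Spec (CommRingCat.of Ω)) (hP : IsPullback i q c.f t) (E : Set Xt)
    (hE : CurvSt.IsSmRatComp Ω Xt q E)
    (hv : ∃ v : Γ((Scheme.Modules.pullback i).obj L, ⊤), E ⊆ (CohB1.genLocus _ (homOf v) : Set Xt)) :
    (3 : ℕ∞) ≤ (CurvSt.meetPts Xt E).encard +
      (Nat.card {j : Fin r // CurvSt.markedPt c.B.sect c.B.sect_f hP (Fin.castAdd m j) ∈ E} : ℕ∞) := by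
  obtain ⟨v, hv⟩ := hv
  obtain ⟨w⟩ := w
  obtain ⟨π⟩ := Groth.Agent.Ega3B.PullTensor.nonempty_pullPowIso i hL (a + 1)
  have hmem : ∀ z : Xt, z ∈ CohB1.genLocus _ (homOf (pullTop i s)) ↔
      z ∉ Set.range (fun j : Fin m => CurvSt.markedPt c.B.sect c.B.sect_f hP (Fin.natAdd r j)) := by
    intro z
    rw [genLocus_pullTop i hN s]
    have h1 : z ∈ i ⁻¹ᵁ CohB1.genLocus N (homOf s) ↔ i z ∈ CohB1.genLocus N (homOf s) := Iff.rfl
    rw [h1, hs]
    constructor
    · rintro h ⟨j, hj⟩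
      exact h j ((mem_range_iff hP c.B.sect c.B.sect_f _ z).mpr hj.symm)
    · intro h j hj
      exact h ⟨j, ((mem_range_iff hP c.B.sect c.B.sect_f _ z).mp hj).symm⟩
  have key := notMem q hE (L := (Scheme.Modules.pullback i).obj L) (isInvertible_pullback i hL) (isInvertible_pullback i hN)
    (π.symm ≪≫ (Scheme.Modules.pullback i).mapIso w) v hv (pullTop i s) (Set.finite_range _) hmem
  obtain ⟨-, -, -, -, -, -, h, -⟩ := hst.2.2.2 Ω t Xt i q hP
  refine (h E hE).trans (add_le_add le_rfl ?_)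
  have hlt : ∀ j : Fin (r + m), CurvSt.markedPt c.B.sect c.B.sect_f hP j ∈ E → (j : ℕ) < r := by
    intro j hj
    by_contra hr
    have h1 : j = Fin.natAdd r ⟨(j : ℕ) - r, by omega⟩ := Fin.ext (by simp; omega)
    exact key _ ⟨⟨(j : ℕ) - r, by omega⟩, congrArg (CurvSt.markedPt c.B.sect c.B.sect_f hP) h1.symm⟩ hj
  have hcard : Nat.card {j : Fin (r + m) // CurvSt.markedPt c.B.sect c.B.sect_f hP j ∈ E} ≤
      Nat.card {j : Fin r // CurvSt.markedPt c.B.sect c.B.sect_f hP (Fin.castAdd m j) ∈ E} := by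
    refine Nat.card_le_card_of_injective (fun j => ⟨⟨j.1, hlt j.1 j.2⟩, ?_⟩) ?_
    · have h1 : Fin.castAdd m (⟨(j.1 : ℕ), hlt j.1 j.2⟩ : Fin r) = j.1 := Fin.ext rfl
      rw [h1]
      exact j.2
    · intro j j' h
      exact Subtype.ext (Fin.ext (by simpa using congrArg (fun z => ((z : {j : Fin r // CurvSt.markedPt c.B.sect c.B.sect_f hP (Fin.castAdd m j) ∈ E}).1 : ℕ)) h))
  exact_mod_cast hcard

end Main

end K314.Stab
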